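import Mathlib

set_option autoImplicit false

namespace Cfsg.Agent.H164.S4790

/-- `2 ^ k ≤ ∏ w i` -/
theorem two_pow_le_prod {k : ℕ} (w : Fin k → ℕ) (h : ∀ i, 2 ≤ w i) : 2 ^ k ≤ ∏ i, w i := by
  calc 2 ^ k = ∏ _i : Fin k, 2 := by simp
    _ ≤ ∏ i, w i := Finset.prod_le_prod' fun i _ => h i

theorem succ_le_pow23 (k : ℕ) : 6 * (k + 2) ≤ 23 ^ (2 ^ (k + 1) - 1) := by
  induction k with
  | zero => norm_num
  | succ n ih =>
    have h1 : 2 ^ (n + 1) - 1 + 1 ≤ 2 ^ (n + 1 + 1) - 1 := by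
      have : 1 ≤ 2 ^ (n + 1) := Nat.one_le_two_pow
      rw [pow_succ 2 (n + 1)]
      omega
    calc 6 * (n + 1 + 2) ≤ 6 * (n + 2) * 23 := by omega
      _ ≤ 23 ^ (2 ^ (n + 1) - 1) * 23 := Nat.mul_le_mul_right _ ih
      _ = 23 ^ (2 ^ (n + 1) - 1 + 1) := (pow_succ _ _).symm
      _ ≤ _ := Nat.pow_le_pow_right (by norm_num) h1

/-- exponents -/
theorem exp_identity {W w : ℕ} (hW : 1 ≤ W) (hw : 1 ≤ w) : (W - 1) + (w - 1) + (W - 1) * (w - 1) = W * w - 1 := by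
  obtain ⟨a, rfl⟩ : ∃ a, W = a + 1 := ⟨W - 1, by omega⟩
  obtain ⟨b, rfl⟩ : ∃ b, w = b + 1 := ⟨w - 1, by omega⟩
  simp only [Nat.add_sub_cancel]
  have : (a + 1) * (b + 1) = a * b + a + b + 1 := by ring
  omega

theorem prod_step {p k W w X B : ℕ} (h23 : 23 ≤ p) (hW : 2 ^ (k + 1) ≤ W) (hw : 2 ≤ w) (hX : X ≤ 6 * p ^ (W - 1))
    (hB : B ≤ 6 * p ^ (w - 1)) : (k + 2) * (X * B) ≤ 6 * p ^ (W * w - 1) := by
  have h2 : 2 ^ (k + 1) - 1 ≤ (W - 1) * (w - 1) := by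
    calc 2 ^ (k + 1) - 1 ≤ W - 1 := by omega
      _ = (W - 1) * 1 := (mul_one _).symm
      _ ≤ (W - 1) * (w - 1) := Nat.mul_le_mul_left _ (by omega)
  have h3 : 6 * (k + 2) ≤ p ^ ((W - 1) * (w - 1)) := by
    calc 6 * (k + 2) ≤ 23 ^ (2 ^ (k + 1) - 1) := succ_le_pow23 k
      _ ≤ 23 ^ ((W - 1) * (w - 1)) := Nat.pow_le_pow_right (by norm_num) h2
      _ ≤ p ^ ((W - 1) * (w - 1)) := Nat.pow_le_pow_left h23 _
  have h4 : 1 ≤ W := le_trans Nat.one_le_two_pow hW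
  calc (k + 2) * (X * B) ≤ (k + 2) * ((6 * p ^ (W - 1)) * (6 * p ^ (w - 1))) :=
        Nat.mul_le_mul_left _ (Nat.mul_le_mul hX hB)
    _ = 6 * (p ^ (W - 1) * p ^ (w - 1) * (6 * (k + 2))) := by ring
    _ ≤ 6 * (p ^ (W - 1) * p ^ (w - 1) * p ^ ((W - 1) * (w - 1))) :=
        Nat.mul_le_mul_left _ (Nat.mul_le_mul_left _ h3)
    _ = 6 * p ^ (W * w - 1) := by rw [← pow_add, ← pow_add, exp_identity h4 (by omega)]

theorem prod_le {p : ℕ} (h23 : 23 ≤ p) (k : ℕ) (w B : Fin (k + 1) → ℕ) (hw : ∀ i, 2 ≤ w i)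
    (hB : ∀ i, B i ≤ 6 * p ^ (w i - 1)) : (k + 1).factorial * ∏ i, B i ≤ 6 * p ^ ((∏ i, w i) - 1) := by
  induction k with
  | zero =>
    have h1 : ∏ i : Fin (0 + 1), B i = B 0 := Fin.prod_univ_one B
    have h2 : ∏ i : Fin (0 + 1), w i = w 0 := Fin.prod_univ_one w
    have h3 : (0 + 1).factorial = 1 := rfl
    rw [h1, h2, h3, one_mul]
    exact hB 0
  | succ n ih =>
    rw [Fin.prod_univ_castSucc, Fin.prod_univ_castSucc (f := w)]
    have h1 := ih (fun i => w i.castSucc) (fun i => B i.castSucc) (fun i => hw _) (fun i => hB _)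
    have h2 := two_pow_le_prod (fun i : Fin (n + 1) => w i.castSucc) (fun i => hw _)
    have h3 := prod_step (k := n) h23 h2 (hw (Fin.last _)) h1 (hB (Fin.last _))
    calc (n + 1 + 1).factorial * ((∏ i : Fin (n + 1), B i.castSucc) * B (Fin.last (n + 1)))
        = (n + 2) * (((n + 1).factorial * ∏ i : Fin (n + 1), B i.castSucc) * B (Fin.last (n + 1))) := by
          rw [Nat.factorial_succ (n + 1)]; ring
      _ ≤ _ := h3

/-- `b ≤ 6 p ^ (m - 1)` from `b (p - 1) ≤ p ^ m - 1` -/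
theorem le_of_mul_le {p m b : ℕ} (h23 : 23 ≤ p) (hm : 1 ≤ m) (h : b * (p - 1) ≤ p ^ m - 1) : b ≤ 6 * p ^ (m - 1) := by
  obtain ⟨n, rfl⟩ : ∃ n, m = n + 1 := ⟨m - 1, by omega⟩
  obtain ⟨s, rfl⟩ : ∃ s, p = s + 1 := ⟨p - 1, by omega⟩
  simp only [Nat.add_sub_cancel] at *
  have h1 : b * s ≤ (6 * (s + 1) ^ n) * s := by
    calc b * s ≤ (s + 1) ^ (n + 1) := h.trans (Nat.sub_le _ _)
      _ = (s + 1) ^ n * (s + 1) := pow_succ _ _
      _ ≤ (s + 1) ^ n * (6 * s) := Nat.mul_le_mul_left _ (by omega)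
      _ = _ := by ring
  exact Nat.le_of_mul_le_mul_right h1 (by omega)

/-- case `w₀ ≥ 2` -/
theorem case_ge {p W w0 m b b0 P : ℕ} (h23 : 23 ≤ p) (hW : 2 ≤ W) (hw0 : 2 ≤ w0) (hm : W * w0 ≤ m)
    (hP : P ≤ 6 * p ^ (W - 1)) (hb0 : b0 * (p - 1) ≤ p ^ w0 - 1) (hb : b ≤ b0 * P) :
    b * (p - 1) ≤ p ^ m - 1 := by
  have h1 : W + w0 ≤ W * w0 := by
    obtain ⟨a, rfl⟩ : ∃ a, W = a + 2 := ⟨W - 2, by omega⟩
    obtain ⟨c, rfl⟩ : ∃ c, w0 = c + 2 := ⟨w0 - 2, by omega⟩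
    have : (a + 2) * (c + 2) = a * c + 2 * a + 2 * c + 4 := by ring
    have h2 : 0 ≤ a * c := Nat.zero_le _
    omega
  have hp : 1 ≤ p := by omega
  have h2 : p ^ (W + w0) ≤ p ^ m := Nat.pow_le_pow_right hp (h1.trans hm)
  have h3 : p ^ (W + w0) = p * (p ^ (W - 1) * p ^ w0) := by
    rw [← pow_add, ← pow_succ']
    congr 1
    omega
  have h4 : b * (p - 1) ≤ 6 * (p ^ (W - 1) * p ^ w0) := by
    calc b * (p - 1) ≤ b0 * P * (p - 1) := Nat.mul_le_mul_right _ hb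
      _ = P * (b0 * (p - 1)) := by ring
      _ ≤ (6 * p ^ (W - 1)) * (p ^ w0) := Nat.mul_le_mul hP (hb0.trans (Nat.sub_le _ _))
      _ = _ := by ring
  have h5 : 0 < p ^ (W - 1) * p ^ w0 := Nat.mul_pos (Nat.pow_pos (by omega)) (Nat.pow_pos (by omega))
  have h6 : 6 * (p ^ (W - 1) * p ^ w0) + 1 ≤ p * (p ^ (W - 1) * p ^ w0) := by nlinarith
  omega

/-- case `w₀ = 1`, `W < m` -/
theorem case_lt {p W m b : ℕ} (h23 : 23 ≤ p) (hW : 1 ≤ W) (hm : W < m) (hb : b ≤ 6 * p ^ (W - 1)) :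
    b * (p - 1) ≤ p ^ m - 1 := by
  have hp : 1 ≤ p := by omega
  have h2 : p ^ (W + 1) ≤ p ^ m := Nat.pow_le_pow_right hp hm
  have h3 : p ^ (W + 1) = p * (p * p ^ (W - 1)) := by
    rw [← pow_succ', ← pow_succ']
    congr 1
    omega
  have h4 : b * (p - 1) ≤ 6 * p ^ (W - 1) * p := Nat.mul_le_mul hb (Nat.sub_le _ _)
  have h5 : 0 < p ^ (W - 1) := Nat.pow_pos (by omega)
  have h6 : 6 * p ^ (W - 1) * p + 1 ≤ p * (p * p ^ (W - 1)) := by
    have : 6 * p ^ (W - 1) * p = 6 * (p * p ^ (W - 1)) := by ring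
    rw [this]
    have h7 : 0 < p * p ^ (W - 1) := Nat.mul_pos (by omega) h5
    nlinarith
  omega

theorem thirtysix_le (k : ℕ) : 36 * (k + 3) ≤ 23 ^ (2 ^ (k + 2) - 1) := by
  induction k with
  | zero => norm_num
  | succ n ih =>
    have h1 : 2 ^ (n + 2) - 1 + 1 ≤ 2 ^ (n + 1 + 2) - 1 := by
      have : 1 ≤ 2 ^ (n + 2) := Nat.one_le_two_pow
      rw [show n + 1 + 2 = n + 2 + 1 by ring, pow_succ 2 (n + 2)]
      omega
    calc 36 * (n + 1 + 3) ≤ 36 * (n + 3) * 23 := by omega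
      _ ≤ 23 ^ (2 ^ (n + 2) - 1) * 23 := Nat.mul_le_mul_right _ ih
      _ = 23 ^ (2 ^ (n + 2) - 1 + 1) := (pow_succ _ _).symm
      _ ≤ _ := Nat.pow_le_pow_right (by norm_num) h1

/-- case `k ≥ 2`, `w₀ = 1`, `m = W` -/
theorem case_many {p : ℕ} (h23 : 23 ≤ p) (k : ℕ) (w B : Fin (k + 2) → ℕ) (hw : ∀ i, 2 ≤ w i)
    (hB : ∀ i, B i ≤ 6 * p ^ (w i - 1)) (b : ℕ) (hb : b ≤ (k + 2).factorial * ∏ i, B i) :
    b * (p - 1) ≤ p ^ (∏ i, w i) - 1 ∨ (k = 0 ∧ ∀ i, w i = 2) := by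
  rw [Fin.prod_univ_castSucc] at hb
  rw [Fin.prod_univ_castSucc]
  have h1 := prod_le h23 k (fun i => w i.castSucc) (fun i => B i.castSucc) (fun i => hw _) (fun i => hB _)
  have h2 := two_pow_le_prod (fun i : Fin (k + 1) => w i.castSucc) (fun i => hw _)
  set W := ∏ i : Fin (k + 1), w i.castSucc with hWd
  set v := w (Fin.last (k + 1)) with hv
  have hv2 : 2 ≤ v := hw _
  have hp : 1 ≤ p := by omega
  have hW2 : 2 ≤ W := le_trans (by rw [pow_succ]; have := Nat.one_le_two_pow (n := k); omega) h2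
  have h3 : b ≤ (36 * (k + 2)) * (p ^ (W - 1) * p ^ (v - 1)) := by
    calc b ≤ (k + 2).factorial * ((∏ i : Fin (k + 1), B i.castSucc) * B (Fin.last (k + 1))) := hb
      _ = (k + 2) * (((k + 1).factorial * ∏ i : Fin (k + 1), B i.castSucc) * B (Fin.last (k + 1))) := by
          rw [Nat.factorial_succ (k + 1)]; ring
      _ ≤ (k + 2) * ((6 * p ^ (W - 1)) * (6 * p ^ (v - 1))) :=
          Nat.mul_le_mul_left _ (Nat.mul_le_mul h1 (hB _))
      _ = _ := by ring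
  have key : 36 * (k + 2) ≤ p ^ ((W - 1) * (v - 1)) → b * (p - 1) ≤ p ^ (W * v) - 1 := by
    intro h
    have h4 : p ^ (W * v) = p * (p ^ (W - 1) * p ^ (v - 1) * p ^ ((W - 1) * (v - 1))) := by
      rw [← pow_add, ← pow_add, exp_identity (by omega) (by omega), ← pow_succ']
      congr 1
      have : 1 ≤ W * v := Nat.mul_pos (by omega) (by omega)
      omega
    have h5 : b ≤ p ^ (W - 1) * p ^ (v - 1) * p ^ ((W - 1) * (v - 1)) := by
      calc b ≤ (36 * (k + 2)) * (p ^ (W - 1) * p ^ (v - 1)) := h3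
        _ ≤ p ^ ((W - 1) * (v - 1)) * (p ^ (W - 1) * p ^ (v - 1)) := Nat.mul_le_mul_right _ h
        _ = _ := by ring
    have h6 : 0 < p ^ (W - 1) * p ^ (v - 1) * p ^ ((W - 1) * (v - 1)) :=
      Nat.mul_pos (Nat.mul_pos (Nat.pow_pos (by omega)) (Nat.pow_pos (by omega))) (Nat.pow_pos (by omega))
    rw [h4]
    set Q := p ^ (W - 1) * p ^ (v - 1) * p ^ ((W - 1) * (v - 1))
    have h7 : b * (p - 1) ≤ Q * (p - 1) := Nat.mul_le_mul_right _ h5
    have h8 : Q * (p - 1) + Q = p * Q := by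
      obtain ⟨s, rfl⟩ : ∃ s, p = s + 1 := ⟨p - 1, by omega⟩
      simp only [Nat.add_sub_cancel]
      ring
    omega
  rcases Nat.eq_zero_or_pos k with hk | hk
  · subst hk
    by_cases hx : 2 ≤ (W - 1) * (v - 1)
    · left
      apply key
      calc 36 * (0 + 2) ≤ 23 ^ 2 := by norm_num
        _ ≤ 23 ^ ((W - 1) * (v - 1)) := Nat.pow_le_pow_right (by norm_num) hx
        _ ≤ p ^ ((W - 1) * (v - 1)) := Nat.pow_le_pow_left h23 _
    · right
      have h4 : (W - 1) * (v - 1) = 1 := by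
        have : 0 < (W - 1) * (v - 1) := Nat.mul_pos (by omega) (by omega)
        omega
      have h5 : W - 1 = 1 := Nat.eq_one_of_mul_eq_one_right h4
      have h6 : v - 1 = 1 := Nat.eq_one_of_mul_eq_one_left h4
      have hW' : W = w 0 := by
        rw [hWd]; simp
      refine ⟨rfl, fun i => ?_⟩
      fin_cases i
      · change w 0 = 2
        omega
      · change w (Fin.last 1) = 2
        change w (Fin.last (0 + 1)) = 2
        omega
  · left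
    apply key
    obtain ⟨n, rfl⟩ : ∃ n, k = n + 1 := ⟨k - 1, by omega⟩
    have h4 : 2 ^ (n + 2) - 1 ≤ (W - 1) * (v - 1) := by
      calc 2 ^ (n + 2) - 1 ≤ W - 1 := by
            have : 2 ^ (n + 1 + 1) ≤ W := h2
            have h' : n + 1 + 1 = n + 2 := by ring
            rw [h'] at this
            omega
        _ = (W - 1) * 1 := (mul_one _).symm
        _ ≤ (W - 1) * (v - 1) := Nat.mul_le_mul_left _ (by omega)
    calc 36 * (n + 1 + 2) = 36 * (n + 3) := by ring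
      _ ≤ 23 ^ (2 ^ (n + 2) - 1) := thirtysix_le n
      _ ≤ 23 ^ ((W - 1) * (v - 1)) := Nat.pow_le_pow_right (by norm_num) h4
      _ ≤ p ^ ((W - 1) * (v - 1)) := Nat.pow_le_pow_left h23 _

end Cfsg.Agent.H164.S4790
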