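import Mathlib
import Cfsg.Agent.H697.Alm.Defs
import Cfsg.Agent.SignalizersComponents.Components
import Cfsg.Agent.H164.S4790.StrNum

/-!
# S4790, T7: the structure of `CF`

`str_of` : the statement `str` from the conclusions of `chain` and `comps`.
-/

set_option autoImplicit false

open Cfsg Module Subgroup

namespace Cfsg.Agent.H164.S4790

open Cfsg.Agent.H697.Alm Cfsg.Agent.SignalizersComponents.Components

universe u

section

variable {D E : Type u} [Group D] [AddCommGroup E] [DistribMulAction D E] {F : Type u} [Field F] [Module F E]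

theorem CF_normal (fr : Fr D E F) : (CF D E F).Normal := by
  refine ⟨fun g hg d c e => ?_⟩
  obtain ⟨c', hc'⟩ := fr.norm d⁻¹ c
  have h1 : ∀ e : E, c • e = d • (c' • (d⁻¹ • e)) := fun e => by
    rw [← hc', smul_inv_smul]
  calc (d * g * d⁻¹) • (c • e) = d • (g • (d⁻¹ • (c • e))) := by rw [mul_smul, mul_smul]
    _ = d • (c' • (g • (d⁻¹ • e))) := by rw [hc', hg]
    _ = c • ((d * g * d⁻¹) • e) := by
        rw [h1, mul_smul, mul_smul, inv_smul_smul]

theorem AF_le_CF : AF D E F ≤ CF D E F := by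
  rintro a ⟨c, hc⟩ c' e
  rw [hc, hc, smul_comm]

theorem AF_normal (fr : Fr D E F) : (AF D E F).Normal := by
  refine ⟨?_⟩
  rintro a ⟨c, hc⟩ d
  obtain ⟨c', hc'⟩ := fr.norm d c
  refine ⟨c', fun e => ?_⟩
  rw [mul_smul, mul_smul, hc, hc', smul_inv_smul]

theorem AF_comm [FaithfulSMul D E] {a g : D} (ha : a ∈ AF D E F) (hg : g ∈ CF D E F) : a * g = g * a := by
  obtain ⟨c, hc⟩ := ha
  apply FaithfulSMul.eq_of_smul_eq_smul (α := E)
  intro e
  rw [mul_smul, mul_smul, hc, hc, hg]

end

/-- the simple quotient of a component -/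
theorem quot_nonab {G : Type*} [Group G] {K : Subgroup G} (hK : IsComponent K) :
    IsSimpleGroup (K ⧸ center K) ∧ ¬ IsMulCommutative (K ⧸ center K) := by
  refine ⟨hK.2.2, fun hc => ?_⟩
  have hs : IsSimpleGroup (K ⧸ center K) := hK.2.2
  have h1 : commutator K = ⊤ := hK.2.1.commutator_eq_top
  have h2 : commutator K ≤ center K := by
    rw [commutator_def, Subgroup.commutator_le]
    intro x _ y _
    rw [← QuotientGroup.eq_one_iff, commutatorElement_def]
    have h3 : (x : K ⧸ center K) * (y : K ⧸ center K) = y * x := hc.is_comm.comm _ _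
    rw [QuotientGroup.mk_mul, QuotientGroup.mk_mul, QuotientGroup.mk_mul, QuotientGroup.mk_inv, QuotientGroup.mk_inv,
      h3]
    group
  rw [h1, top_le_iff] at h2
  obtain ⟨a, b, hab⟩ := exists_pair_ne (K ⧸ center K)
  apply hab
  obtain ⟨a, rfl⟩ := QuotientGroup.mk_surjective a
  obtain ⟨b, rfl⟩ := QuotientGroup.mk_surjective b
  rw [QuotientGroup.eq, h2]
  exact mem_top _

theorem comp_ne {G : Type*} [Group G] {K : Subgroup G} (hK : IsComponent K) (h : K ≤ centralizer (K : Set G)) : False := by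
  obtain ⟨h1, h2⟩ := quot_nonab hK
  apply h2
  refine ⟨⟨fun a b => ?_⟩⟩
  obtain ⟨a, rfl⟩ := QuotientGroup.mk_surjective a
  obtain ⟨b, rfl⟩ := QuotientGroup.mk_surjective b
  have h3 : a * b = b * a := Subtype.ext ((mem_centralizer_iff.1 (h b.2)) _ a.2)
  rw [← QuotientGroup.mk_mul, ← QuotientGroup.mk_mul, h3]

theorem normal_of_unique {G : Type*} [Group G] {K : Subgroup G} (hK : IsComponent K)
    (hu : ∀ K' : Subgroup G, IsComponent K' → K = K') : K.Normal := by
  refine ⟨fun x hx g => ?_⟩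
  rw [hu _ (isComponent_conj g hK)]
  exact ⟨x, hx, rfl⟩

variable {D E : Type u} [Group D] [Finite D] [AddCommGroup E] [Finite E] [Nontrivial E] [DistribMulAction D E]
  [FaithfulSMul D E] {F : Type u} [Field F] [Finite F] [Module F E]

omit [Finite D] [Finite E] [Nontrivial E] [Finite F] in
/-- `60` divides the index of the scalars -/
theorem sixty_dvd (fr : Fr D E F) {K : Subgroup D} (hK : K ≤ CF D E F)
    (h60 : Nat.card (K ⧸ center K) = 60) : 60 ∣ (AF D E F).relIndex (CF D E F) := by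
  have hn := AF_normal fr
  have h1 : (AF D E F).relIndex (K ⊔ AF D E F) * (K ⊔ AF D E F).relIndex (CF D E F) =
      (AF D E F).relIndex (CF D E F) := relIndex_mul_relIndex _ _ _ le_sup_right (sup_le hK AF_le_CF)
  rw [← h1, relIndex_sup_right]
  refine Dvd.dvd.mul_right ?_ _
  rw [← h60]
  refine index_dvd_of_le ?_
  intro x hx
  rw [mem_subgroupOf] at hx
  rw [mem_center_iff]
  intro y
  apply Subtype.ext
  exact (AF_comm hx (hK y.2)).symm

/-- the bound for one factor -/
theorem factor_le {p w a : ℕ} (h23 : 23 ≤ p) (hw : 3 ≤ w) (h : (p - 13) * a + 1 < p ^ w) : a ≤ 6 * p ^ (w - 1) := by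
  by_contra hlt
  obtain ⟨v, rfl⟩ : ∃ v, w = v + 1 := ⟨w - 1, by omega⟩
  simp only [Nat.add_sub_cancel] at hlt
  have h1 : p ^ (v + 1) ≤ (p - 13) * a := by
    calc p ^ (v + 1) = p * p ^ v := pow_succ' _ _
      _ ≤ ((p - 13) * 6) * p ^ v := Nat.mul_le_mul_right _ (by omega)
      _ = (p - 13) * (6 * p ^ v) := by ring
      _ ≤ (p - 13) * a := Nat.mul_le_mul_left _ (by omega)
  omega

theorem str_of {p m : ℕ} (hp : p.Prime) (h23 : 23 ≤ p) (hcop : ¬ p ∣ Nat.card D)
    (fr : Fr D E F) (hm : finrank F E = m)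
    (hB : ∀ (T : Type u) [Group T] [Finite T] [IsSimpleGroup T], ¬ IsMulCommutative T →
      ∀ p m : ℕ, p.Prime → 23 ≤ p → ¬ p ∣ Nat.card T → 3 ≤ m → H698.Rep.{u, u} p m T →
        Nat.card (MulAut T) ≤ 6 * p ^ (m - 1))
    (hT : ∀ (T : Type u) [Group T] [Finite T] [IsSimpleGroup T], ¬ IsMulCommutative T → H698.Rep.{u, u} p 2 T →
      Nat.card T = 60 ∧ Nat.card (MulAut T) ≤ 120)
    (hchain : ∀ (D' : Subgroup D) [D'.Normal], D' ≤ CF D E F → AF D E F ≤ D' →
      (∀ K : Subgroup D, IsComponent K → ¬ K ≤ D') →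
      ∃ w : ℕ, 1 ≤ w ∧ w ^ 2 ≤ finrank F (alg E F D') ∧ (AF D E F).relIndex D' * (p - 1) ≤ p ^ w - 1)
    (hcomps : ∃ (k : ℕ) (K : Fin k → Subgroup D) (w : Fin k → ℕ), Function.Injective K ∧ (∀ i, IsComponent (K i)) ∧
      (∀ K' : Subgroup D, IsComponent K' → ∃ i, K i = K') ∧ (∀ i, K i ≤ CF D E F) ∧ (∀ i, 2 ≤ w i) ∧
      (∀ i, H698.Rep.{u, u} p (w i) (K i ⧸ Subgroup.center (K i))) ∧
      (∏ i, w i) ^ 2 * finrank F (alg E F (CF D E F ⊓ Subgroup.centralizer ((⨆ i, K i : Subgroup D) : Set D))) ≤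
        finrank F E ^ 2 ∧
      (CF D E F ⊓ Subgroup.centralizer ((⨆ i, K i : Subgroup D) : Set D)).relIndex (CF D E F) ≤
        k.factorial * ∏ i, Nat.card (MulAut (K i ⧸ Subgroup.center (K i)))) :
    (m = 1 → CF D E F = AF D E F) ∧ (AF D E F).relIndex (CF D E F) ≤ 6 * p ^ (m - 1) ∧
      ((AF D E F).relIndex (CF D E F) * (p - 1) ≤ p ^ m - 1 ∨
        (3 ≤ m ∧ ∃ K : Subgroup D, IsComponent K ∧ K.Normal ∧ H698.Rep.{u, u} p m (K ⧸ Subgroup.center K) ∧
          CF D E F ⊓ Subgroup.centralizer (K : Set D) = AF D E F) ∨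
        (m = 2 ∧ ∃ K : Subgroup D, IsComponent K) ∨
        (m = 4 ∧ (AF D E F).relIndex (CF D E F) ≤ 28800 ∧ 15 ∣ (AF D E F).relIndex (CF D E F))) := by
  obtain ⟨k, K, w, hinj, hcomp, hall, hKC, hw2, hrep, hdim, hidx⟩ := hcomps
  -- the centralizer of the layer
  have hL : (⨆ i, K i : Subgroup D) = layer D := by
    apply le_antisymm
    · exact iSup_le fun i => le_sSup (hcomp i)
    · refine sSup_le fun K' hK' => ?_
      obtain ⟨i, rfl⟩ := hall K' hK'
      exact le_iSup K i
  have hCn := CF_normal fr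
  have hLn : (⨆ i, K i : Subgroup D).Normal := by rw [hL]; exact layer_normal D
  set L : Subgroup D := ⨆ i, K i with hLdef
  set C := CF D E F with hC
  set A := AF D E F with hA
  have hLC : L ≤ C := iSup_le hKC
  have hDn : (C ⊓ centralizer (L : Set D)).Normal := inferInstance
  have hAD : A ≤ C ⊓ centralizer (L : Set D) := by
    refine le_inf AF_le_CF fun a ha => ?_
    rw [mem_centralizer_iff]
    intro l hl
    exact (AF_comm ha (hLC hl)).symm
  obtain ⟨w0, hw01, hw0d, hb0⟩ := hchain (C ⊓ centralizer (L : Set D)) inf_le_left hAD (fun K' hK' hle => by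
    have h1 : K' ≤ L := by
      obtain ⟨i, rfl⟩ := hall K' hK'
      exact le_iSup K i
    exact comp_ne hK' ((hle.trans inf_le_right).trans (centralizer_le h1)))
  set D' := C ⊓ centralizer (L : Set D) with hD'
  set b0 := A.relIndex D' with hb0d
  set b := A.relIndex C with hbd
  have hbm : b = b0 * D'.relIndex C := (relIndex_mul_relIndex A D' C hAD inf_le_left).symm
  have hbpos : 0 < b0 := Nat.pos_of_ne_zero (by
    rw [hb0d]; exact index_ne_zero_of_finite)
  have hDpos : 0 < D'.relIndex C := Nat.pos_of_ne_zero index_ne_zero_of_finite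
  -- dimensions
  have hWw : (∏ i, w i) * w0 ≤ m := by
    have h1 : ((∏ i, w i) * w0) ^ 2 ≤ m ^ 2 := by
      rw [mul_pow, ← hm]
      exact (Nat.mul_le_mul_left _ hw0d).trans hdim
    exact (Nat.pow_le_pow_iff_left two_ne_zero).1 h1
  -- the factors
  have hcardT : ∀ i, ¬ p ∣ Nat.card (K i ⧸ center (K i)) := fun i h =>
    hcop ((h.trans (card_quotient_dvd_card _)).trans (card_subgroup_dvd_card _))
  have h120 : ∀ i, w i = 2 → Nat.card (K i ⧸ center (K i)) = 60 ∧ Nat.card (MulAut (K i ⧸ center (K i))) ≤ 120 := by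
    intro i hi
    obtain ⟨hs, hna⟩ := quot_nonab (hcomp i)
    exact hT _ hna (hi ▸ hrep i)
  have hBi : ∀ i, Nat.card (MulAut (K i ⧸ center (K i))) ≤ 6 * p ^ (w i - 1) := by
    intro i
    rcases Nat.lt_or_ge (w i) 3 with h3 | h3
    · have h2 : w i = 2 := by have := hw2 i; omega
      have h4 := (h120 i h2).2
      rw [h2]
      simp only [Nat.reduceSub, pow_one]
      omega
    · obtain ⟨hs, hna⟩ := quot_nonab (hcomp i)
      exact hB _ hna p (w i) hp h23 (hcardT i) h3 (hrep i)
  have hp1 : 0 < p - 1 := by omega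
  have hw0one : w0 = 1 → D' = A := by
    intro h
    have h1 : b0 * (p - 1) ≤ 1 * (p - 1) := by
      rw [h, pow_one] at hb0
      omega
    have h2 : b0 ≤ 1 := Nat.le_of_mul_le_mul_right h1 hp1
    have h3 : b0 = 1 := by omega
    exact le_antisymm (relIndex_eq_one.1 h3) hAD
  have hw0b : w0 = 1 → b0 = 1 := fun h => by
    rw [hb0d, hw0one h]
    exact relIndex_self _
  rcases k with _ | _ | n
  · -- no components
    have h1 : D'.relIndex C = 1 := by
      simp only [Nat.factorial_zero, Finset.univ_eq_empty, Finset.prod_empty, mul_one] at hidx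
      omega
    have h2 : (∏ i : Fin 0, w i) = 1 := by simp
    rw [h2, one_mul] at hWw
    rw [h1, mul_one] at hbm
    have h3 : b * (p - 1) ≤ p ^ m - 1 := by
      rw [hbm]
      exact hb0.trans (Nat.sub_le_sub_right (Nat.pow_le_pow_right (by omega) hWw) _)
    refine ⟨fun h => ?_, le_of_mul_le h23 (by omega) h3, Or.inl h3⟩
    have h4 : w0 = 1 := by omega
    refine le_antisymm ?_ AF_le_CF
    rw [← hw0one h4]
    exact relIndex_eq_one.1 h1
  · -- one component
    have hss : Subsingleton (Fin (0 + 1)) := inferInstanceAs (Subsingleton (Fin 1))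
    have h1 : (∏ i : Fin (0 + 1), w i) = w 0 := Fin.prod_univ_one w
    rw [h1] at hWw
    have hW2 := hw2 0
    have h3 : b ≤ b0 * Nat.card (MulAut (K 0 ⧸ center (K 0))) := by
      rw [hbm]
      refine Nat.mul_le_mul_left _ (hidx.trans ?_)
      have h4 : (∏ i : Fin (0 + 1), Nat.card (MulAut (K i ⧸ center (K i)))) = Nat.card (MulAut (K 0 ⧸ center (K 0))) :=
        Fin.prod_univ_one _
      rw [h4]
      simp
    rcases Nat.lt_or_ge w0 2 with hw | hw
    · have hw1 : w0 = 1 := by omega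
      rw [hw0b hw1, one_mul] at h3
      rw [hw1, mul_one] at hWw
      have h4 := h3.trans (hBi 0)
      have h5 : 2 ≤ m := hW2.trans hWw
      refine ⟨fun h => by omega, h4.trans (Nat.mul_le_mul_left _ (Nat.pow_le_pow_right (by omega) (by omega))), ?_⟩
      rcases Nat.lt_or_ge (w 0) m with h6 | h6
      · exact Or.inl (case_lt h23 (by omega) h6 h4)
      · have h7 : w 0 = m := le_antisymm hWw h6
        rcases Nat.lt_or_ge m 3 with h8 | h8
        · exact Or.inr (Or.inr (Or.inl ⟨by omega, K 0, hcomp 0⟩))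
        · refine Or.inr (Or.inl ⟨h8, K 0, hcomp 0, ?_, h7 ▸ hrep 0, ?_⟩)
          · refine normal_of_unique (hcomp 0) fun K' hK' => ?_
            obtain ⟨i, hi⟩ := hall K' hK'
            rw [← hi, Subsingleton.elim i 0]
          · rw [← hw0one hw1, hD']
            have h9 : L = K 0 := by
              rw [hLdef]
              apply le_antisymm
              · exact iSup_le fun i => by rw [Subsingleton.elim i 0]
              · exact le_iSup K 0
            rw [h9]
    · have h4 := case_ge h23 hW2 hw hWw (hBi 0) hb0 h3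
      have h5 : 1 ≤ m := le_trans (by have : 1 ≤ w 0 * w0 := Nat.mul_pos (by omega) (by omega); exact this) hWw
      refine ⟨fun h => ?_, le_of_mul_le h23 h5 h4, Or.inl h4⟩
      have : 2 * 2 ≤ w 0 * w0 := Nat.mul_le_mul hW2 hw
      omega
  · -- several components
    have h3 : b ≤ b0 * ((n + 2).factorial * ∏ i, Nat.card (MulAut (K i ⧸ center (K i)))) := by
      rw [hbm]
      exact Nat.mul_le_mul_left _ hidx
    have hP := prod_le h23 (n + 1) w (fun i => Nat.card (MulAut (K i ⧸ center (K i)))) hw2 hBi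
    have hW := two_pow_le_prod w hw2
    have hW2 : 2 ≤ ∏ i, w i := le_trans (by rw [pow_succ]; have := Nat.one_le_two_pow (n := n + 1); omega) hW
    rcases Nat.lt_or_ge w0 2 with hw | hw
    · have hw1 : w0 = 1 := by omega
      rw [hw0b hw1, one_mul] at h3
      rw [hw1, mul_one] at hWw
      have h4 : b ≤ 6 * p ^ ((∏ i, w i) - 1) := h3.trans hP
      have h5 : 2 ≤ m := hW2.trans hWw
      refine ⟨fun h => by omega, h4.trans (Nat.mul_le_mul_left _ (Nat.pow_le_pow_right (by omega) (by omega))), ?_⟩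
      rcases Nat.lt_or_ge (∏ i, w i) m with h6 | h6
      · exact Or.inl (case_lt h23 (by omega) h6 h4)
      · have h7 : (∏ i, w i) = m := le_antisymm hWw h6
        rcases case_many h23 n w (fun i => Nat.card (MulAut (K i ⧸ center (K i)))) hw2 hBi b h3 with h8 | ⟨rfl, h8⟩
        · rw [h7] at h8
          exact Or.inl h8
        · refine Or.inr (Or.inr (Or.inr ⟨?_, ?_, ?_⟩))
          · rw [← h7]
            calc (∏ i : Fin (0 + 1 + 1), w i) = ∏ _i : Fin (0 + 1 + 1), 2 := Finset.prod_congr rfl fun i _ => h8 i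
              _ = 4 := by simp
          · refine h3.trans ?_
            rw [Fin.prod_univ_two]
            have e1 := (h120 0 (h8 0)).2
            have e2 := (h120 1 (h8 1)).2
            have e3 : (0 + 2).factorial = 2 := rfl
            rw [e3]
            have e4 := Nat.mul_le_mul e1 e2
            omega
          · exact (show 15 ∣ 60 by norm_num).trans (sixty_dvd fr (hKC 0) (h120 0 (h8 0)).1)
    · have h4 := case_ge h23 hW2 hw hWw hP hb0 h3
      have h5 : 1 ≤ m := le_trans (by have : 1 ≤ (∏ i, w i) * w0 := Nat.mul_pos (by omega) (by omega); exact this) hWw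
      refine ⟨fun h => ?_, le_of_mul_le h23 h5 h4, Or.inl h4⟩
      have : 2 * 2 ≤ (∏ i, w i) * w0 := Nat.mul_le_mul hW2 hw
      omega

end Cfsg.Agent.H164.S4790
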